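import Cfsg.Agent.H32.SixSuz.Data

/-!
Kernel checks of the lifts.
-/

set_option autoImplicit false
set_option Elab.async false
set_option maxRecDepth 100000

namespace Cfsg.Agent.H32.SixSuz

theorem inv_ok : ((List.range 7).all fun l =>
    mulOK (gens.getD l oneL) (gensInv.getD l oneL) oneL &&
      mulOK (gensInv.getD l oneL) (gens.getD l oneL) oneL) = true := by decide +kernel

theorem rel_ok : (relChains.all fun p => Nat.blt 0 p.2.2.1 && Nat.blt p.2.2.1 13 &&
    chainOK gens oneL p.1 p.2.1 p.2.2.2 && smulOK p.2.2.1 oneL p.2.2.2) = true := by decide +kernel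

theorem three_ok : (chainOK gens oneL (wordThreeX ++ wordThreeY) chainThreeXY valThreeXY &&
    chainOK gens oneL (wordThreeY ++ wordThreeX) chainThreeYX valThreeYX &&
      smulOK 3 valThreeYX valThreeXY) = true := by decide +kernel

theorem two_ok : (chainOK gens oneL (wordTwoX ++ wordTwoY) chainTwoXY valTwoXY &&
    chainOK gens oneL (wordTwoY ++ wordTwoX) chainTwoYX valTwoYX &&
      smulOK 12 valTwoYX valTwoXY) = true := by decide +kernel

end Cfsg.Agent.H32.SixSuz
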