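import Mathlib

/-!
Packed 12 by 12 matrices over the field with 13 elements: a row is a number in base 16.
-/

set_option autoImplicit false

namespace Cfsg.Agent.H32.SixSuz

/-- An entry. -/
def ent (A : List ℕ) (i j : ℕ) : ℕ := (A.getD i 0 >>> (4 * j)) &&& 15

/-- The matrix of a packed matrix. -/
def toM (A : List ℕ) : Matrix (Fin 12) (Fin 12) (ZMod 13) := fun i j => (ent A i j : ZMod 13)

/-- The packed unit matrix. -/
def oneL : List ℕ := (List.range 12).map fun i => 16 ^ i

/-- The check of a product. -/
def mulOK (A B C : List ℕ) : Bool :=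
  (List.range 12).all fun i => (List.range 12).all fun j =>
    Nat.beq (((List.range 12).map fun k => ent A i k * ent B k j).sum % 13) (ent C i j)

/-- The check of a scalar multiple. -/
def smulOK (t : ℕ) (B C : List ℕ) : Bool :=
  (List.range 12).all fun i => (List.range 12).all fun j =>
    Nat.beq (t * ent B i j % 13) (ent C i j)

/-- The check of the partial products of a word. -/
def chainOK (gs : List (List ℕ)) : List ℕ → List ℕ → List (List ℕ) → List ℕ → Bool
  | cur, [], [], last => decide (cur = last)
  | cur, l :: w, M :: Ms, last => mulOK cur (gs.getD l oneL) M && chainOK gs M w Ms last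
  | _, _, _, _ => false

theorem toM_one : toM oneL = 1 := by decide +kernel

theorem toM_mul {A B C : List ℕ} (h : mulOK A B C = true) : toM C = toM A * toM B := by
  simp only [mulOK, List.all_eq_true, List.mem_range, Nat.beq_eq] at h
  ext i j
  rw [Matrix.mul_apply]
  show ((ent C i j : ℕ) : ZMod 13) = ∑ k : Fin 12, toM A i k * toM B k j
  rw [← h i i.2 j j.2, ZMod.natCast_mod]
  show ((∑ k ∈ Finset.range 12, ent A i k * ent B k j : ℕ) : ZMod 13) = _
  rw [← Fin.sum_univ_eq_sum_range (fun k => ent A i k * ent B k j), Nat.cast_sum]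
  exact Finset.sum_congr rfl fun k _ => by rw [Nat.cast_mul]; rfl

theorem toM_smul {t : ℕ} {B C : List ℕ} (h : smulOK t B C = true) :
    toM C = (t : ZMod 13) • toM B := by
  simp only [smulOK, List.all_eq_true, List.mem_range, Nat.beq_eq] at h
  ext i j
  show ((ent C i j : ℕ) : ZMod 13) = (t : ZMod 13) * ((ent B i j : ℕ) : ZMod 13)
  rw [← h i i.2 j j.2, ZMod.natCast_mod, Nat.cast_mul]

theorem toM_chain (gs : List (List ℕ)) : ∀ {cur w : List ℕ} {Ms : List (List ℕ)} {last : List ℕ},
    chainOK gs cur w Ms last = true →
      toM last = toM cur * (w.map fun l => toM (gs.getD l oneL)).prod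
  | cur, [], [], last, h => by
    simp only [chainOK, decide_eq_true_eq] at h
    rw [h, List.map_nil, List.prod_nil, mul_one]
  | cur, [], _ :: _, last, h => by simp [chainOK] at h
  | cur, _ :: _, [], last, h => by simp [chainOK] at h
  | cur, l :: w, M :: Ms, last, h => by
    simp only [chainOK, Bool.and_eq_true] at h
    rw [toM_chain gs h.2, toM_mul h.1, List.map_cons, List.prod_cons, mul_assoc]

end Cfsg.Agent.H32.SixSuz
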