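import Cfsg.Agent.H32.SixSuz.Check
import Cfsg.Agent.H32.TailCert.Suz

/-!
A stem extension of the Suzuki group with cyclic kernel of order six, inside the product of the
group with the twelve-dimensional matrix group over thirteen elements.
-/

set_option autoImplicit false
set_option Elab.async false
set_option maxRecDepth 10000
set_option linter.style.haveILetI false

namespace Cfsg.Agent.H32.SixSuz

open Subgroup
open Cfsg.Agent.H45 (evalW evalW_append evalW_cons evalW_nil SuzPres.pres)
open Cfsg.Agent.H32.OutSuz (G wd wd_smul wordAt ptB eq_one_of_fix)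
open scoped commutatorElement

/-- The matrix group. -/
abbrev X : Type := (Matrix (Fin 12) (Fin 12) (ZMod 13))ˣ

theorem inv_mul_l {l : ℕ} (h : l < 7) :
    toM (gens.getD l oneL) * toM (gensInv.getD l oneL) = 1 ∧
      toM (gensInv.getD l oneL) * toM (gens.getD l oneL) = 1 := by
  have h1 := List.all_eq_true.1 inv_ok l (List.mem_range.2 h)
  rw [Bool.and_eq_true] at h1
  exact ⟨by rw [← toM_mul h1.1, toM_one], by rw [← toM_mul h1.2, toM_one]⟩

/-- The lift of a letter. -/
def lift (l : ℕ) : X :=
  if h : l < 7 then ⟨_, _, (inv_mul_l h).1, (inv_mul_l h).2⟩ else 1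

theorem lift_val (l : ℕ) : (lift l : Matrix (Fin 12) (Fin 12) (ZMod 13)) = toM (gens.getD l oneL) := by
  unfold lift
  split
  · rfl
  · rename_i h
    rw [Units.val_one, List.getD_eq_default _ _ (by simpa [gens] using h), toM_one]

theorem evalW_lift (w : List ℕ) :
    ((evalW lift w : X) : Matrix (Fin 12) (Fin 12) (ZMod 13)) =
      (w.map fun l => toM (gens.getD l oneL)).prod := by
  induction w with
  | nil => simp [evalW]
  | cons l w ih => rw [evalW_cons, Units.val_mul, List.map_cons, List.prod_cons, ih, lift_val]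

theorem chain_val {w : List ℕ} {Ms : List (List ℕ)} {last : List ℕ}
    (h : chainOK gens oneL w Ms last = true) :
    ((evalW lift w : X) : Matrix (Fin 12) (Fin 12) (ZMod 13)) = toM last := by
  rw [evalW_lift, toM_chain gens h, toM_one, one_mul]

/-- The scalars. -/
def sc : (ZMod 13)ˣ →* X := Units.map (Matrix.scalar (Fin 12)).toMonoidHom

theorem sc_val (t : (ZMod 13)ˣ) :
    (sc t : Matrix (Fin 12) (Fin 12) (ZMod 13)) = (t : ZMod 13) • 1 := by
  show Matrix.scalar (Fin 12) (t : ZMod 13) = _
  rw [Matrix.smul_one_eq_diagonal]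
  rfl

theorem sc_injective : Function.Injective sc := fun a b h => by
  have h1 : Matrix.scalar (Fin 12) (a : ZMod 13) = Matrix.scalar (Fin 12) (b : ZMod 13) :=
    congrArg Units.val h
  exact Units.ext (Matrix.scalar_inj.1 h1)

theorem sc_central (t : (ZMod 13)ˣ) : sc t ∈ center X := by
  rw [mem_center_iff]
  intro M
  exact Units.ext (Matrix.scalar_commute (t : ZMod 13) (fun r => mul_comm _ _)
    (M : Matrix (Fin 12) (Fin 12) (ZMod 13))).symm

theorem evalW_map {A B : Type*} [Group A] [Group B] (f : A →* B) (e : ℕ → A) (w : List ℕ) :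
    f (evalW e w) = evalW (fun l => f (e l)) w := by
  simp [evalW, map_list_prod, List.map_map, Function.comp_def]

theorem relChains_cover : ((TailCert.Suz.rels ++ (List.range 7).map fun l => [l, l]).all fun w =>
    relChains.any fun p => decide (p.1 = w)) = true := by decide +kernel

theorem rel_central : ∀ w ∈ TailCert.Suz.rels ++ (List.range 7).map (fun l => [l, l]),
    evalW lift w ∈ center X := by
  intro w hw
  obtain ⟨p, hp, hpw⟩ := List.any_eq_true.1 (List.all_eq_true.1 relChains_cover w hw)
  have h := List.all_eq_true.1 rel_ok p hp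
  simp only [Bool.and_eq_true] at h
  obtain ⟨⟨⟨h0, h13⟩, hc⟩, hs⟩ := h
  rw [← of_decide_eq_true hpw]
  have hne : ((p.2.2.1 : ℕ) : ZMod 13) ≠ 0 := by
    intro hz
    rw [ZMod.natCast_eq_zero_iff] at hz
    have h13' : p.2.2.1 < 13 := by simpa using h13
    have h0' : 0 < p.2.2.1 := by simpa using h0
    exact absurd (Nat.le_of_dvd h0' hz) (by omega)
  haveI : Fact (Nat.Prime 13) := ⟨by norm_num⟩
  have he : evalW lift p.1 = sc (Units.mk0 _ hne) := Units.ext (by
    rw [chain_val hc, toM_smul hs, toM_one, sc_val, Units.val_mk0])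
  rw [he]
  exact sc_central _

theorem exists_rho : ∃ ρ : G →* X ⧸ center X, ∀ l, ρ (SuzPres.pres.e l) = lift l := by
  refine TailCert.Suz.univ (X ⧸ center X) (fun l => (lift l : X ⧸ center X)) (fun l => ?_)
    (fun l hl => ?_) fun w hw => ?_
  · show ((lift l * lift l : X) : X ⧸ center X) = 1
    rw [QuotientGroup.eq_one_iff]
    by_cases hl : l < 7
    · have := rel_central [l, l] (List.mem_append_right _ (List.mem_map.2 ⟨l, List.mem_range.2 hl, rfl⟩))
      simpa [evalW] using this
    · rw [lift, dif_neg hl, mul_one]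
      exact one_mem _
  · rw [lift, dif_neg (not_lt.2 hl)]
    rfl
  · rw [show (fun l => ((lift l : X) : X ⧸ center X)) =
      fun l => QuotientGroup.mk' (center X) (lift l) from rfl, ← evalW_map,
      QuotientGroup.mk'_apply, QuotientGroup.eq_one_iff]
    exact rel_central w (List.mem_append_left _ hw)

theorem words_commute : (([(wordThreeX, wordThreeY), (wordTwoX, wordTwoY)]).all fun p =>
    (p.1 ++ p.2).all (fun l => decide (l < 7)) && (p.2 ++ p.1).all (fun l => decide (l < 7)) &&
      (List.finRange 5).all fun k =>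
        Nat.beq (wordAt (p.1 ++ p.2) (ptB k).1) (wordAt (p.2 ++ p.1) (ptB k).1)) = true := by
  decide +kernel

theorem commute_G {x y : List ℕ}
    (h : (x, y) ∈ [(wordThreeX, wordThreeY), (wordTwoX, wordTwoY)]) :
    ⁅wd x, wd y⁆ = 1 := by
  have h1 := List.all_eq_true.1 words_commute _ h
  simp only [Bool.and_eq_true] at h1
  obtain ⟨⟨ha, hb⟩, hk⟩ := h1
  have h2 : (wd (y ++ x))⁻¹ * wd (x ++ y) = 1 := eq_one_of_fix fun k => by
    rw [mul_smul, inv_smul_eq_iff]
    refine Fin.ext ?_
    rw [wd_smul ha, wd_smul hb]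
    exact Nat.eq_of_beq_eq_true (List.all_eq_true.1 hk k (List.mem_finRange k))
  rw [inv_mul_eq_one] at h2
  rw [wd, wd, evalW_append, evalW_append] at h2
  exact commutatorElement_eq_one_iff_mul_comm.2 h2.symm

theorem commutator_lift {x y : List ℕ} {Mxy Myx : List (List ℕ)} {Vxy Vyx : List ℕ} {t : ℕ}
    (h1 : chainOK gens oneL (x ++ y) Mxy Vxy = true) (h2 : chainOK gens oneL (y ++ x) Myx Vyx = true)
    (h3 : smulOK t Vyx Vxy = true) (u : (ZMod 13)ˣ) (hu : (u : ZMod 13) = t) :
    ⁅evalW lift x, evalW lift y⁆ = sc u := by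
  have h : evalW lift x * evalW lift y = sc u * (evalW lift y * evalW lift x) := by
    apply Units.ext
    rw [← evalW_append, ← evalW_append, Units.val_mul, chain_val h1, chain_val h2, toM_smul h3,
      sc_val, hu, smul_mul_assoc, one_mul]
  rw [commutatorElement_def, h]
  group

/-- The Suzuki group has a stem extension with kernel cyclic of order six. -/
theorem exists_stem_six : ∃ (Γ : Type) (_ : Group Γ) (_ : Finite Γ) (σ : Γ →* G),
    Cfsg.IsStemExtension σ ∧ Nonempty (σ.ker ≃* Multiplicative (ZMod 6)) := by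
  haveI : Finite G := Cfsg.Agent.H32.OutSuz.finiteG
  obtain ⟨ρ, hρ⟩ := exists_rho
  let s : ℕ → G × X := fun l => (SuzPres.pres.e l, lift l)
  let S : Subgroup (G × X) := closure (Set.range s)
  have hSρ : ∀ v ∈ S, ρ v.1 = (v.2 : X ⧸ center X) := by
    intro v hv
    induction hv using closure_induction with
    | mem v hv => obtain ⟨l, rfl⟩ := hv; exact hρ l
    | one => exact map_one ρ
    | mul a b _ _ ha hb => rw [Prod.fst_mul, map_mul, ha, hb]; rfl
    | inv a _ ha => rw [Prod.fst_inv, map_inv, ha]; rfl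
  let π : S →* G := (MonoidHom.fst G X).comp S.subtype
  have hπker : ∀ v : S, π v = 1 → v ∈ center S := by
    intro v hv
    rw [mem_center_iff]
    intro u
    have hc : (v : G × X).2 ∈ center X := by
      rw [← QuotientGroup.eq_one_iff, ← hSρ v v.2, show (v : G × X).1 = 1 from hv, map_one]
    refine Subtype.ext (Prod.ext ?_ (mem_center_iff.1 hc _))
    show (u : G × X).1 * (v : G × X).1 = (v : G × X).1 * (u : G × X).1
    rw [show (v : G × X).1 = 1 from hv, mul_one, one_mul]
  have hπsurj : Function.Surjective π := by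
    rw [← MonoidHom.range_eq_top, eq_top_iff, ← TailCert.Suz.gen_top, closure_le]
    rintro _ ⟨l, rfl⟩
    exact ⟨⟨s l, subset_closure ⟨l, rfl⟩⟩, rfl⟩
  have hperf : commutator G = ⊤ := by
    haveI := Cfsg.Agent.H45.SuzMain.isSimple
    rcases (inferInstance : (commutator G).Normal).eq_bot_or_eq_top with h | h
    · exfalso
      have hcomm : ∀ a b : G, a * b = b * a := fun a b => by
        rw [← commutatorElement_eq_one_iff_mul_comm, ← mem_bot, ← h]
        exact commutator_mem_commutator (mem_top a) (mem_top b)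
      letI : CommGroup G := { (inferInstance : Group G) with mul_comm := hcomm }
      have hp : (Nat.card G).Prime := IsSimpleGroup.prime_card
      rw [Cfsg.Agent.H32.OutSuz.card_G] at hp
      norm_num at hp
    · exact h
  let σ : commutator S →* G := π.comp (commutator S).subtype
  have hσsurj : Function.Surjective σ := by
    rw [← MonoidHom.range_eq_top, MonoidHom.range_comp, range_subtype, _root_.commutator_def,
      map_commutator, map_top_of_surjective π hπsurj, ← _root_.commutator_def, hperf]
  have hσker : σ.ker ≤ center (commutator S) := by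
    intro v hv
    rw [mem_center_iff]
    intro u
    exact Subtype.ext (mem_center_iff.1 (hπker v hv) u)
  have hperfΓ : commutator (commutator S) = ⊤ := by
    rw [eq_top_iff]
    intro v _
    have hle : commutator S ≤ (commutator (commutator S)).map (commutator S).subtype := by
      conv_lhs => rw [_root_.commutator_def]
      rw [commutator_le]
      intro a _ b _
      obtain ⟨a', ha⟩ := hσsurj (π a)
      obtain ⟨b', hb⟩ := hσsurj (π b)
      refine ⟨⁅a', b'⁆, commutator_mem_commutator (mem_top a') (mem_top b'), ?_⟩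
      have hca : (a' : S)⁻¹ * a ∈ center S := hπker _ (by
        rw [map_mul, map_inv, show π (a' : S) = π a from ha, inv_mul_cancel])
      have hcb : (b' : S)⁻¹ * b ∈ center S := hπker _ (by
        rw [map_mul, map_inv, show π (b' : S) = π b from hb, inv_mul_cancel])
      rw [map_commutatorElement]
      conv_rhs => rw [show a = a' * ((a' : S)⁻¹ * a) by group, show b = b' * ((b' : S)⁻¹ * b) by group]
      exact (H74.Schur.commutatorElement_mul_central hca hcb).symm
    obtain ⟨w, hw, he⟩ := hle v.2
    rwa [← Subtype.ext (a1 := w) (a2 := v) he]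
  have hstem : Cfsg.IsStemExtension σ :=
    ⟨hσsurj, hσker, by rw [hperfΓ]; exact le_top⟩
  refine ⟨commutator S, inferInstance, inferInstance, σ, hstem, ?_⟩
  -- the scalar of order six
  let u3 : (ZMod 13)ˣ := ⟨3, 9, by decide, by decide⟩
  let u2 : (ZMod 13)ˣ := ⟨12, 12, by decide, by decide⟩
  have hword : ∀ (x y : List ℕ) (u : (ZMod 13)ˣ),
      ⁅wd x, wd y⁆ = 1 → ⁅evalW lift x, evalW lift y⁆ = sc u →
        ∃ c : σ.ker, ((c : S) : G × X).2 = sc u := by
    intro x y u hG hX
    have hmem : ∀ w : List ℕ, evalW s w ∈ S := fun w => list_prod_mem fun v hv => by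
      obtain ⟨l, -, rfl⟩ := List.mem_map.1 hv
      exact subset_closure ⟨l, rfl⟩
    let a : S := ⟨_, hmem x⟩
    let b : S := ⟨_, hmem y⟩
    have hfst : ∀ w, (evalW s w).1 = wd w := fun w => evalW_map (MonoidHom.fst G X) s w
    have hsnd : ∀ w, (evalW s w).2 = evalW lift w := fun w => evalW_map (MonoidHom.snd G X) s w
    refine ⟨⟨⟨⁅a, b⁆, commutator_mem_commutator (mem_top a) (mem_top b)⟩, ?_⟩, ?_⟩
    · rw [MonoidHom.mem_ker]
      show (MonoidHom.fst G X) (S.subtype ⁅a, b⁆) = 1
      rw [map_commutatorElement, map_commutatorElement]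
      show ⁅(evalW s x).1, (evalW s y).1⁆ = 1
      rw [hfst, hfst, hG]
    · show (MonoidHom.snd G X) (S.subtype ⁅a, b⁆) = sc u
      rw [map_commutatorElement, map_commutatorElement]
      show ⁅(evalW s x).2, (evalW s y).2⁆ = sc u
      rw [hsnd, hsnd, hX]
  have h3 := three_ok
  have h2 := two_ok
  simp only [Bool.and_eq_true] at h3 h2
  obtain ⟨c3, hc3⟩ := hword _ _ u3 (commute_G List.mem_cons_self)
    (commutator_lift h3.1.1 h3.1.2 h3.2 u3 rfl)
  obtain ⟨c2, hc2⟩ := hword _ _ u2 (commute_G (List.mem_cons_of_mem _ List.mem_cons_self))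
    (commutator_lift h2.1.1 h2.1.2 h2.2 u2 rfl)
  let φ : σ.ker →* X :=
    ((MonoidHom.snd G X).comp S.subtype).comp ((commutator S).subtype.comp σ.ker.subtype)
  have hord : orderOf (u3 * u2) = 6 := by
    rw [orderOf_eq_iff (by norm_num)]
    refine ⟨by decide, fun m hm hm' => ?_⟩
    interval_cases m <;> decide
  have h6 : 6 ≤ Nat.card σ.ker := by
    have h1 : orderOf (φ (c3 * c2)) = 6 := by
      rw [map_mul, show φ c3 = sc u3 from hc3, show φ c2 = sc u2 from hc2, ← map_mul,
        orderOf_injective sc sc_injective, hord]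
    exact h1 ▸ (Nat.le_of_dvd Nat.card_pos ((orderOf_map_dvd φ _).trans (orderOf_dvd_natCard _)))
  obtain ⟨f, hf⟩ := TailCert.Suz.exists_surjective_six σ hstem
  have h6' : Nat.card (Multiplicative (ZMod 6)) = 6 := by
    rw [Nat.card_congr Multiplicative.toAdd, Nat.card_zmod]
  have hcard : Nat.card σ.ker ≤ 6 := h6' ▸ Nat.card_le_card_of_surjective f hf
  exact ⟨(MulEquiv.ofBijective f ((Nat.bijective_iff_surjective_and_card f).2
    ⟨hf, by omega⟩)).symm⟩

end Cfsg.Agent.H32.SixSuz
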